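import Groth.Agent.Hopf.CharFun
import Groth.Agent.AlgGrp1.ChevalleyMat
import Groth.Agent.Misc1.Linear.Basic
import Mathlib.RingTheory.Bialgebra.Equiv

/-!
# Chevalley's line stabiliser over a principal ideal domain
-/

set_option autoImplicit false
set_option linter.unusedSectionVars false

universe u

open TensorProduct Matrix

noncomputable section

namespace Groth.Misc1.LineStab

open Groth.ComodLib

variable {R : Type u} [CommRing R] {A : Type u} [CommRing A]

section Corep

variable [Bialgebra R A] {ι κ : Type*} [Fintype ι] [DecidableEq ι] [Fintype κ] [DecidableEq κ]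

theorem map_scalar {m n : Type*} {B C : Type*} [CommRing B] [Algebra R B] [CommRing C] [Algebra R C] (f : B →ₐ[R] C)
    (X : Matrix m n R) : (X.map (algebraMap R B)).map f = X.map (algebraMap R C) := by
  ext i j
  exact f.commutes _

/-- conjugates of a corepresentation by scalar matrices -/
theorem isComultMat_conj {M : Matrix ι ι A} (h : IsComultMat R M) {P : Matrix ι κ R} {Q : Matrix κ ι R}
    (hQP : Q * P = 1) (hPQ : P * Q = 1) :
    IsComultMat R (Q.map (algebraMap R A) * M * P.map (algebraMap R A)) := by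
  refine ⟨?_, ?_⟩
  · simp only [Matrix.map_mul, map_scalar, h.1]
    have e : P.map (algebraMap R (A ⊗[R] A)) * Q.map (algebraMap R (A ⊗[R] A)) = 1 := by
      rw [← Matrix.map_mul, hPQ, Matrix.map_one _ (map_zero _) (map_one _)]
    generalize M.map (Algebra.TensorProduct.includeLeft (S := R) : A →ₐ[R] A ⊗[R] A) = M₁
    generalize M.map (Algebra.TensorProduct.includeRight : A →ₐ[R] A ⊗[R] A) = M₂
    generalize P.map (algebraMap R (A ⊗[R] A)) = P' at e
    generalize Q.map (algebraMap R (A ⊗[R] A)) = Q' at e
    calc Q' * (M₁ * M₂) * P' = Q' * (M₁ * (P' * Q') * M₂) * P' := by rw [e, Matrix.mul_one]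
      _ = Q' * M₁ * P' * (Q' * M₂ * P') := by simp only [Matrix.mul_assoc]
  · simp only [Matrix.map_mul, map_scalar, h.2, Matrix.mul_one]
    rw [← Matrix.map_mul, hQP]
    exact Matrix.map_one _ (map_zero _) (map_one _)

theorem isComultMat_fromBlocks {M : Matrix ι ι A} {N : Matrix κ κ A} (hM : IsComultMat R M) (hN : IsComultMat R N) :
    IsComultMat R (Matrix.fromBlocks M 0 0 N) := by
  refine ⟨?_, ?_⟩
  · simp only [Matrix.fromBlocks_map, Matrix.fromBlocks_multiply, hM.1, hN.1]
    simp
  · simp only [Matrix.fromBlocks_map, hM.2, hN.2]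
    simp

theorem isComultMat_tpow {M : Matrix ι ι A} (h : IsComultMat R M) (j : ℕ) :
    IsComultMat R (Matrix.of fun I J : Fin j → ι => ∏ a, M (I a) (J a)) := by
  rw [isComultMat_iff] at h
  refine (isComultMat_iff (Matrix.of fun I J : Fin j → ι => ∏ a, M (I a) (J a))).2 ⟨fun I J => ?_, fun I J => ?_⟩ <;>
    simp only [Matrix.of_apply]
  · change Bialgebra.comulAlgHom R A (∏ a, M (I a) (J a)) = _
    rw [map_prod]
    simp only [Bialgebra.comulAlgHom_apply, h.1, Fintype.prod_sum]
    refine Finset.sum_congr rfl fun L _ => ?_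
    change _ = (∏ a, M (I a) (L a)) ⊗ₜ[R] ∏ a, M (L a) (J a)
    induction (Finset.univ : Finset (Fin j)) using Finset.induction_on with
    | empty => simp [Algebra.TensorProduct.one_def]
    | insert a s ha ih => rw [Finset.prod_insert ha, Finset.prod_insert ha, Finset.prod_insert ha, ih,
        Algebra.TensorProduct.tmul_mul_tmul]
  · rw [← Bialgebra.counitAlgHom_apply, map_prod]
    simp only [Bialgebra.counitAlgHom_apply, h.2]
    by_cases hf : I = J
    · subst hf; simp
    · obtain ⟨a, ha⟩ := Function.ne_iff.1 hf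
      rw [if_neg hf]
      exact Finset.prod_eq_zero (Finset.mem_univ a) (if_neg ha)

end Corep

variable [HopfAlgebra R A] {ι : Type*} [Fintype ι] [DecidableEq ι]

theorem mul_antipode {M : Matrix ι ι A} (h : IsComultMat R M) :
    M * M.map (HopfAlgebraStruct.antipode R) = 1 ∧ M.map (HopfAlgebraStruct.antipode R) * M = 1 := by
  obtain ⟨h1, h2⟩ := (isComultMat_iff M).1 h
  refine ⟨?_, ?_⟩
  · ext i j
    have e := HopfAlgebra.mul_antipode_lTensor_comul_apply (R := R) (M i j)
    rw [h1, h2, map_sum, map_sum] at e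
    simp only [LinearMap.lTensor_tmul, LinearMap.mul'_apply] at e
    simp only [Matrix.mul_apply, Matrix.map_apply, Matrix.one_apply]
    rw [e]
    split_ifs <;> simp
  · ext i j
    have e := HopfAlgebra.mul_antipode_rTensor_comul_apply (R := R) (M i j)
    rw [h1, h2, map_sum, map_sum] at e
    simp only [LinearMap.rTensor_tmul, LinearMap.mul'_apply] at e
    simp only [Matrix.mul_apply, Matrix.map_apply, Matrix.one_apply]
    rw [e]
    split_ifs <;> simp

/-- **the determinant trick**: a corepresentation with a column cutting out a given block -/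
theorem exists_line {r m : ℕ} (a : Matrix (Fin r ⊕ Fin m) (Fin r ⊕ Fin m) A) (ha : IsComultMat R a) :
    ∃ (M : Matrix (Fin r → Fin r ⊕ Fin m) (Fin r → Fin r ⊕ Fin m) A), IsComultMat R M ∧
      Ideal.span {x : A | ∃ h, h ≠ Sum.inl ∧ M h Sum.inl = x} =
        Ideal.span {x : A | ∃ i j, a (Sum.inr i) (Sum.inl j) = x} := by
  classical
  let top : Fin r → Fin r ⊕ Fin m := Sum.inl
  have htop : Function.Injective top := Sum.inl_injective
  let T := Fin r → Fin r ⊕ Fin m
  let v : T → R := fun f => ((Groth.AlgGrp1.Chev.incl R top).submatrix f id).det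
  have hv : v top = 1 := by
    have : (Groth.AlgGrp1.Chev.incl R top).submatrix top id = 1 := by
      change (1 : Matrix _ _ R).submatrix top top = 1
      exact Matrix.submatrix_one top htop
    simp only [v, this, Matrix.det_one]
  let w : T → R := fun f => if f = top then 0 else v f
  let E : Matrix T T R := Matrix.of fun f g => if g = top then w f else 0
  have hEE : E * E = 0 := by
    ext f g
    rw [Matrix.mul_apply, Matrix.zero_apply]
    refine Finset.sum_eq_zero fun l _ => ?_
    by_cases hl : l = top <;> simp [E, w, hl]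
  have hQP : (1 - E) * (1 + E) = 1 := by rw [sub_mul, mul_add, mul_add, hEE]; simp
  have hPQ : (1 + E) * (1 - E) = 1 := by rw [add_mul, mul_sub, mul_sub, hEE]; simp
  let M₀ : Matrix T T A := Matrix.of fun I J => ∏ x, a (I x) (J x)
  let φ := algebraMap R A
  refine ⟨(1 - E).map φ * M₀ * (1 + E).map φ, isComultMat_conj (isComultMat_tpow ha r) hQP hPQ, ?_⟩
  -- the column at the top index
  have hminor : ∀ h : T, (M₀ * (1 + E).map φ) h top = (a.submatrix h top).det := fun h => by
    rw [Groth.AlgGrp1.Chev.det_submatrix_expand a top h, Matrix.mul_apply]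
    refine Finset.sum_congr rfl fun f _ => congrArg (M₀ h f * ·) ?_
    have e : ((Groth.AlgGrp1.Chev.incl A top).submatrix f id).det = φ (v f) := by
      rw [show v f = ((Groth.AlgGrp1.Chev.incl R top).submatrix f id).det from rfl, RingHom.map_det]
      congr 1
      ext x y
      simp [Groth.AlgGrp1.Chev.incl, Matrix.one_apply, apply_ite φ]
    rw [e, Matrix.map_apply]
    by_cases hf : f = top
    · subst hf; simp [E, w, hv]
    · simp [E, w, hf]
  have hcol : ∀ h : T, ((1 - E).map φ * M₀ * (1 + E).map φ) h top =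
      (a.submatrix h top).det - φ (w h) * (a.submatrix top top).det := fun h => by
    rw [Matrix.mul_assoc, Matrix.mul_apply]
    simp only [hminor, Matrix.map_apply, Matrix.sub_apply, map_sub, sub_mul, Finset.sum_sub_distrib]
    congr 1
    · rw [Finset.sum_eq_single h (fun l _ hl => by simp [Matrix.one_apply_ne hl.symm])
        (fun hh => absurd (Finset.mem_univ h) hh)]
      simp
    · rw [Finset.sum_eq_single top (fun l _ hl => by simp [E, hl]) (fun hh => absurd (Finset.mem_univ top) hh)]
      simp [E]
  have hcrit : ∀ I : Ideal A, (∀ h, h ≠ top → ((1 - E).map φ * M₀ * (1 + E).map φ) h top ∈ I) ↔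
      ∀ i j, a (Sum.inr i) (Sum.inl j) ∈ I := fun I => by
    let q := Ideal.Quotient.mk I
    have hinv : (a.map (HopfAlgebraStruct.antipode R)).map q * a.map q = 1 := by
      rw [← Matrix.map_mul, (mul_antipode ha).2, Matrix.map_one _ (map_zero _) (map_one _)]
    have h := Groth.AlgGrp1.Chev.exists_det_iff (a.map q) ((a.map (HopfAlgebraStruct.antipode R)).map q) hinv top htop
    have hdet : ∀ g : T, ((a.map q).submatrix g top).det = q (a.submatrix g top).det := fun g => by
      rw [RingHom.map_det]; rfl
    have hdv : ∀ g : T, ((Groth.AlgGrp1.Chev.incl (A ⧸ I) top).submatrix g id).det = q (φ (v g)) := fun g => by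
      rw [show q (φ (v g)) = (q.comp φ) ((Groth.AlgGrp1.Chev.incl R top).submatrix g id).det from rfl, RingHom.map_det]
      congr 1
      ext x y
      simp [Groth.AlgGrp1.Chev.incl, Matrix.one_apply, apply_ite q, apply_ite φ]
    simp only [hdet, hdv] at h
    have hR : (∀ i, i ∉ Set.range top → ∀ j, (a.map q) i (top j) = 0) ↔ ∀ i j, a (Sum.inr i) (Sum.inl j) ∈ I :=
      ⟨fun H i j => Ideal.Quotient.eq_zero_iff_mem.1 (H (Sum.inr i) (by simp [top]) j), fun H i hi j => by
        rcases i with i | i
        · exact absurd ⟨i, rfl⟩ hi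
        · exact Ideal.Quotient.eq_zero_iff_mem.2 (H i j)⟩
    refine Iff.trans ?_ (h.trans hR)
    refine ⟨fun H => ⟨q (a.submatrix top top).det, fun g => ?_⟩, fun ⟨c, hc⟩ g hg => ?_⟩
    · rcases eq_or_ne g top with rfl | hg
      · rw [hv, map_one, map_one, mul_one]
      · have := Ideal.Quotient.eq_zero_iff_mem.2 (H g hg)
        rw [hcol, show w g = v g from if_neg hg, map_sub, map_mul, sub_eq_zero] at this
        rw [this, mul_comm]
    · refine Ideal.Quotient.eq_zero_iff_mem.1 ?_
      rw [hcol, show w g = v g from if_neg hg, map_sub, map_mul, hc g, hc top, hv]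
      simp [q, mul_comm]
  refine le_antisymm (Ideal.span_le.2 ?_) (Ideal.span_le.2 ?_)
  · rintro _ ⟨h, hh, rfl⟩
    exact (hcrit (Ideal.span {x : A | ∃ i j, a (Sum.inr i) (Sum.inl j) = x})).2
      (fun i j => Ideal.subset_span ⟨i, j, rfl⟩) h hh
  · rintro _ ⟨i, j, rfl⟩
    exact (hcrit (Ideal.span {x : A | ∃ h, h ≠ top ∧ ((1 - E).map φ * M₀ * (1 + E).map φ) h top = x})).1
      (fun h hh => Ideal.subset_span ⟨h, hh, rfl⟩) i j

variable [IsDomain R] [IsPrincipalIdealRing R] [Module.Flat R A] [Algebra.FiniteType R A]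

/-- **Chevalley's theorem over a principal ideal domain** -/
theorem exists_corep {B : Type u} [CommRing B] [HopfAlgebra R B] [Module.Flat R B]
    (π : A →ₐc[R] B) (hπ : Function.Surjective π) :
    ∃ (d : ℕ) (hd : 0 < d) (a : Matrix (Fin d) (Fin d) A),
      (∀ i j, CoalgebraStruct.comul (R := R) (a i j) = ∑ l, a i l ⊗ₜ[R] a l j) ∧
      (∀ i j, CoalgebraStruct.counit (R := R) (a i j) = if i = j then 1 else 0) ∧
      (∃ u : A, u * a.det = 1 ∧
        Algebra.adjoin R (Set.range (fun p : Fin d × Fin d => a p.1 p.2) ∪ {u}) = ⊤) ∧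
      RingHom.ker π = Ideal.span (Set.range (fun i : {i : Fin d // i ≠ ⟨0, hd⟩} => a i.1 ⟨0, hd⟩)) := by
  classical
  have : IsNoetherianRing A := Algebra.FiniteType.isNoetherianRing R A
  obtain ⟨s, hs⟩ := Algebra.FiniteType.out (R := R) (A := A)
  obtain ⟨g, hg⟩ := IsNoetherian.noetherian (RingHom.ker π : Ideal A)
  obtain ⟨U, hUfg, hsU, hU⟩ := Groth.Misc1.Linear.exists_fg_subcomod (R := R) (A := A) (s ∪ g)
  have : Module.Finite R U := Module.Finite.of_fg hUfg
  let πl : A →ₗ[R] B := (π : A →ₐ[R] B).toLinearMap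
  let p : U →ₗ[R] B := πl ∘ₗ U.subtype
  let K := LinearMap.ker p
  let W := LinearMap.range p
  have : Module.IsTorsionFree R A := Module.Flat.isTorsionFree
  have : Module.IsTorsionFree R U := inferInstance
  have : Module.Finite R K := inferInstance
  have : Module.IsTorsionFree R K := Function.Injective.moduleIsTorsionFree K.subtype Subtype.val_injective (fun _ _ => rfl)
  have : Module.Free R K := Module.free_of_finite_type_torsion_free' (R := R) (M := K)
  have : Module.Finite R W := inferInstance
  have : Module.IsTorsionFree R B := Module.Flat.isTorsionFree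
  have : Module.IsTorsionFree R W := Function.Injective.moduleIsTorsionFree W.subtype Subtype.val_injective (fun _ _ => rfl)
  have : Module.Free R W := Module.free_of_finite_type_torsion_free' (R := R) (M := W)
  obtain ⟨sec, hsec⟩ := Module.projective_lifting_property p.rangeRestrict LinearMap.id p.surjective_rangeRestrict
  have hsec' : ∀ x, p (sec x) = (x : B) := fun x => congrArg Subtype.val (LinearMap.congr_fun hsec x)
  let bK := Module.finBasis R K
  let bW := Module.finBasis R W
  let ι' := Fin (Module.finrank R K) ⊕ Fin (Module.finrank R W)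
  have hpc : ∀ x : U, x - sec (p.rangeRestrict x) ∈ K := fun x => by
    rw [LinearMap.mem_ker, map_sub, hsec', sub_eq_zero]
    rfl
  let eU : (K × W) ≃ₗ[R] U := LinearEquiv.ofLinear (K.subtype.coprod sec)
    (LinearMap.prod (LinearMap.codRestrict K (LinearMap.id - sec ∘ₗ p.rangeRestrict) hpc) p.rangeRestrict)
    (LinearMap.ext fun x => by simp) (LinearMap.ext fun x => by
      obtain ⟨k, w⟩ := x
      have h1 : p.rangeRestrict (k + sec w : U) = w := Subtype.ext (by
        change p ((k : U) + sec w) = _
        rw [map_add, k.2, zero_add, hsec'])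
      refine Prod.ext (Subtype.ext ?_) ?_
      · simp only [LinearMap.comp_apply, LinearMap.coprod_apply, Submodule.coe_subtype]
        change ((k : U) + sec w) - sec (p.rangeRestrict ((k : U) + sec w)) = (k : U)
        rw [h1]
        abel
      · simpa using h1)
  let b : Module.Basis ι' R U := (bK.prod bW).map eU
  letI cU := ComodSub.Comod.restr (inferInstance : HopfRep.Comod R A A) U hU
  let n := Fintype.card ι'
  let bn : Module.Basis (Fin n) R U := b.reindex (Fintype.equivFin ι')
  let f : (Fin n → R) →ₗ[R] U := bn.equivFun.symm.toLinearMap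
  let g' : U →ₗ[R] (Fin n → R) := bn.equivFun.toLinearMap
  have hfg : f ∘ₗ g' = LinearMap.id := LinearMap.ext fun x => bn.equivFun.symm_apply_apply x
  let c := Groth.Misc1.Linear.cmat (A := A) f g'
  have hc : IsComultMat R c := (isComultMat_iff c).2 ⟨Groth.Misc1.Linear.comul_cmat f g' hfg, fun i j => by
    rw [Groth.Misc1.Linear.counit_cmat f g' hfg,
      show g' ∘ₗ f = LinearMap.id from LinearMap.ext fun x => bn.equivFun.apply_symm_apply x,
      LinearMap.toMatrix'_id, Matrix.one_apply]⟩
  let a : Matrix ι' ι' A := Matrix.reindex (Fintype.equivFin ι').symm (Fintype.equivFin ι').symm c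
  have ha : IsComultMat R a := hc.reindex _
  have hf : ∀ j : ι', f (Pi.single (Fintype.equivFin ι' j) 1) = b j := fun j => by
    change bn.equivFun.symm _ = _
    rw [Module.Basis.equivFun_symm_apply]
    simp [bn, Pi.single_apply]
  have hexp : ∀ j : ι', Coalgebra.comul (R := R) ((b j : U) : A) = ∑ l, ((b l : U) : A) ⊗ₜ[R] a l j := fun j => by
    have e := ComodSub.restr_coact_coe (inferInstance : HopfRep.Comod R A A) U hU (b j)
    rw [Groth.Misc1.Linear.coact_expand f g' hfg (b j), map_sum] at e
    rw [show Coalgebra.comul (R := R) ((b j : U) : A) = _ from e.symm]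
    refine (Fintype.sum_equiv (Fintype.equivFin ι') _ _ fun l => ?_).symm
    rw [LinearMap.rTensor_tmul, hf, ← hf j]
    rfl
  have hexp1 : ∀ j : ι', ((b j : U) : A) = ∑ l, Coalgebra.counit (R := R) ((b l : U) : A) • a l j := fun j => by
    have e := congrArg (fun z => TensorProduct.lid R A ((Coalgebra.counit (R := R) (A := A)).rTensor A z)) (hexp j)
    simpa [Coalgebra.rTensor_counit_comul] using e
  have hbl : ∀ j, π ((b (Sum.inl j) : U) : A) = 0 := fun j => by
    change p (b (Sum.inl j)) = 0
    simp [b, eU, hsec']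
    exact Module.Basis.prod_apply_inl_snd bK bW j
  have hbr : ∀ j, π ((b (Sum.inr j) : U) : A) = ((bW j : W) : B) := fun j => by
    change p (b (Sum.inr j)) = _
    simp [b, eU, hsec']
    exact Module.Basis.prod_apply_inr_snd bK bW j
  -- the block cuts out the subgroup
  have hJ : Ideal.span {x : A | ∃ i j, a (Sum.inr i) (Sum.inl j) = x} = RingHom.ker π := by
    refine le_antisymm (Ideal.span_le.2 ?_) ?_
    · rintro _ ⟨i, j, rfl⟩
      have e := congrArg (TensorProduct.map πl πl) (hexp (Sum.inl j))
      rw [show TensorProduct.map πl πl (Coalgebra.comul (R := R) ((b (Sum.inl j) : U) : A)) = 0 from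
        (CoalgHomClass.map_comp_comul_apply π _).trans ((congrArg _ (hbl j)).trans (map_zero _)), map_sum,
        Fintype.sum_sum_type] at e
      simp only [TensorProduct.map_tmul, πl, AlgHom.toLinearMap_apply, BialgHom.coe_toAlgHom, hbl, hbr,
        TensorProduct.zero_tmul, Finset.sum_const_zero, zero_add] at e
      let F : (Fin (Module.finrank R W) → R) →ₗ[R] B := Fintype.linearCombination R fun l => ((bW l : W) : B)
      have hF : Function.Injective F := by
        refine LinearMap.ker_eq_bot.1 ?_
        rw [LinearMap.ker_eq_bot']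
        intro x hx
        have h2 : ∑ l, x l • bW l = 0 := Subtype.ext (by
          simpa [F, Fintype.linearCombination_apply] using hx)
        exact funext (Fintype.linearIndependent_iff.1 bW.linearIndependent x h2)
      have h3 : (∑ l, Pi.single l (1 : R) ⊗ₜ[R] π (a (Sum.inr l) (Sum.inl j))) = 0 := by
        refine Module.Flat.rTensor_preserves_injective_linearMap F hF ?_
        rw [map_zero, map_sum]
        refine Eq.trans ?_ e.symm
        refine Finset.sum_congr rfl fun l _ => ?_
        rw [LinearMap.rTensor_tmul]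
        simp [F, Fintype.linearCombination_apply, Pi.single_apply]
      have h4 := congrArg (fun z => TensorProduct.lid R B ((LinearMap.proj i).rTensor B z)) h3
      simpa [map_sum, Pi.single_apply] using h4
    · rw [← hg]
      refine Submodule.span_le.2 fun x hx => ?_
      have hxU : x ∈ U := hsU (by simp [Finset.mem_coe.1 hx])
      have hxK : p ⟨x, hxU⟩ = 0 := by
        have : x ∈ RingHom.ker π := hg ▸ Submodule.subset_span hx
        exact this
      have hrepr : ∀ i, b.repr ⟨x, hxU⟩ (Sum.inr i) = 0 := fun i => by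
        simp only [b, Module.Basis.map_repr, LinearEquiv.trans_apply]
        rw [Module.Basis.prod_repr_inr, show (eU.symm ⟨x, hxU⟩).2 = p.rangeRestrict ⟨x, hxU⟩ from rfl,
          show p.rangeRestrict ⟨x, hxU⟩ = 0 from Subtype.ext hxK, map_zero, Finsupp.zero_apply]
      have hbJ : ∀ j, ((b (Sum.inl j) : U) : A) ∈ Ideal.span {x : A | ∃ i j, a (Sum.inr i) (Sum.inl j) = x} := fun j => by
        rw [hexp1, Fintype.sum_sum_type]
        refine add_mem (Submodule.sum_mem _ fun l _ => ?_) (Submodule.sum_mem _ fun l _ => ?_)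
        · rw [← CoalgHomClass.counit_comp_apply π, hbl, map_zero, zero_smul]
          exact zero_mem _
        · rw [Algebra.smul_def]
          exact Ideal.mul_mem_left _ _ (Ideal.subset_span ⟨l, j, rfl⟩)
      have e := congrArg (Subtype.val : U → A) (b.sum_repr ⟨x, hxU⟩)
      rw [Fintype.sum_sum_type] at e
      simp only [hrepr, zero_smul, Finset.sum_const_zero, add_zero] at e
      rw [SetLike.mem_coe, show x = _ from e.symm, Submodule.coe_sum]
      refine Submodule.sum_mem _ fun j _ => ?_
      rw [Submodule.coe_smul, Algebra.smul_def]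
      exact Ideal.mul_mem_left _ _ (hbJ j)
  -- add the line
  obtain ⟨M, hM, hMspan⟩ := exists_line (R := R) a ha
  let κ := (Fin (Module.finrank R K) → ι') ⊕ ι'
  let N : Matrix κ κ A := Matrix.fromBlocks M 0 0 a
  let x0 : κ := Sum.inl Sum.inl
  have hd : 0 < Fintype.card κ := Fintype.card_pos_iff.2 ⟨x0⟩
  let e : κ ≃ Fin (Fintype.card κ) := (Fintype.equivFin κ).trans (Equiv.swap (Fintype.equivFin κ x0) ⟨0, hd⟩)
  have he : e x0 = ⟨0, hd⟩ := Equiv.swap_apply_left _ _
  let N' := Matrix.reindex e e N
  have hN : IsComultMat R N' := (isComultMat_fromBlocks hM ha).reindex e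
  refine ⟨_, hd, N', ((isComultMat_iff N').1 hN).1, ((isComultMat_iff N').1 hN).2,
    ⟨(N'.map (HopfAlgebraStruct.antipode R)).det, ?_, ?_⟩, ?_⟩
  · rw [← Matrix.det_mul, (mul_antipode hN).2, Matrix.det_one]
  · refine top_le_iff.1 (hs ▸ Algebra.adjoin_le fun x hx => ?_)
    refine Algebra.adjoin_mono Set.subset_union_left ?_
    have hxU : x ∈ U := hsU (by simp [Finset.mem_coe.1 hx])
    rw [show x = _ from congrArg (Subtype.val : U → A) (b.sum_repr ⟨x, hxU⟩).symm, Submodule.coe_sum]
    refine Subalgebra.sum_mem _ fun j _ => ?_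
    rw [Submodule.coe_smul, hexp1]
    refine Subalgebra.smul_mem _ (Subalgebra.sum_mem _ fun l _ => Subalgebra.smul_mem _ ?_ _) _
    exact Algebra.subset_adjoin ⟨(e (Sum.inr l), e (Sum.inr j)), by simp [N', N]⟩
  · rw [← hJ, ← hMspan]
    refine le_antisymm (Ideal.span_le.2 ?_) (Ideal.span_le.2 ?_)
    · rintro _ ⟨h, hh, rfl⟩
      refine Ideal.subset_span ⟨⟨e (Sum.inl h), fun H => hh ?_⟩, ?_⟩
      · exact Sum.inl_injective (e.injective (H.trans he.symm))
      · change N' (e (Sum.inl h)) ⟨0, hd⟩ = M h Sum.inl
        rw [← he]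
        simp [N', N, x0]
    · rintro _ ⟨⟨i, hi⟩, rfl⟩
      obtain ⟨y, rfl⟩ := e.surjective i
      change N' (e y) ⟨0, hd⟩ ∈ Ideal.span {x : A | ∃ h, h ≠ Sum.inl ∧ M h Sum.inl = x}
      rcases y with h | l <;> rw [← he]
      · refine Ideal.subset_span ⟨h, fun H => hi ?_, by simp [N', N, x0]⟩
        rw [H, ← he]
      · simp [N', N, x0]

end Groth.Misc1.LineStab
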